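import Mathlib
import Groth.Agent.S1571
import Groth.Agent.S0449
import Groth.Agent.RGBlowLib.Dominate
import Groth.Agent.S1274
import Groth.Agent.RGBlowLib.Extend
import Groth.Agent.BoundaryConn.Main

/-!
# Modifications of a proper variety with affine open and its compactification
-/

set_option autoImplicit false
set_option backward.isDefEq.respectTransparency false
set_option linter.style.haveILetI false

universe u

open CategoryTheory CategoryTheory.Limits AlgebraicGeometry TopologicalSpace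
open Groth.Agent.AmpleLib

noncomputable section

namespace Groth.Agent.AffBlowLib

/-- Morphisms to a separated scheme agreeing on a schematically dense piece agree. -/
theorem eq_of_dominant {W T X S : Scheme.{u}} (j : W ⟶ T) [IsSchemeTheoreticallyDominant j] (g g' : T ⟶ X)
    (q : X ⟶ S) [IsSeparated q] (h : g ≫ q = g' ≫ q) (hj : j ≫ g = j ≫ g') : g = g' := by
  let t : T ⟶ pullback q q := pullback.lift g g' h
  let π := pullback.fst t (pullback.diagonal q)
  haveI : IsClosedImmersion π := MorphismProperty.pullback_fst (P := @IsClosedImmersion) _ _ inferInstance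
  haveI : IsSchemeTheoreticallyDominant π :=
    S0449.dominant_of_fac (pullback.lift j (j ≫ g) (by
      apply pullback.hom_ext
      · simp [t]
      · simp [t, hj])) π (j := j) (pullback.lift_fst _ _ _)
  haveI := S0449.isIso_of_dominant π
  have hc := (pullback.condition : π ≫ t = pullback.snd t (pullback.diagonal q) ≫ pullback.diagonal q)
  have h1 := congrArg (· ≫ pullback.fst q q) hc
  have h2 := congrArg (· ≫ pullback.snd q q) hc
  simp only [Category.assoc, t, pullback.lift_fst, pullback.lift_snd, pullback.diagonal_fst, pullback.diagonal_snd,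
    Category.comp_id] at h1 h2
  rw [← cancel_epi π, h1, h2]

theorem isIso_restrict_congr {X Y : Scheme.{u}} (f : X ⟶ Y) {A B : Y.Opens} (h : A = B) (hi : IsIso (f ∣_ A)) :
    IsIso (f ∣_ B) := h ▸ hi

/-- The first factor of a composite is an isomorphism where the composite and the second are. -/
theorem isIso_restrict_left {X Y Z : Scheme.{u}} (h : X ⟶ Y) (p : Y ⟶ Z) (U : Z.Opens) [IsIso (p ∣_ U)]
    [IsIso ((h ≫ p) ∣_ U)] : IsIso (h ∣_ (p ⁻¹ᵁ U)) := by
  haveI : IsIso ((h ∣_ (p ⁻¹ᵁ U)) ≫ (p ∣_ U)) := (morphismRestrict_comp h p U) ▸ inferInstance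
  exact IsIso.of_isIso_comp_right _ (p ∣_ U)

theorem isIso_restrict_comp {X Y Z : Scheme.{u}} (h : X ⟶ Y) (p : Y ⟶ Z) (U : Z.Opens) [IsIso (p ∣_ U)]
    [IsIso (h ∣_ (p ⁻¹ᵁ U))] : IsIso ((h ≫ p) ∣_ U) := by
  rw [morphismRestrict_comp]
  exact inferInstanceAs (IsIso ((h ∣_ (p ⁻¹ᵁ U)) ≫ (p ∣_ U)))

/-- A morphism which maps an open isomorphically onto an open, and nothing else into it. -/
theorem isIso_restrict_of_fac {A G X : Scheme.{u}} (t : A ⟶ G) [IsOpenImmersion t] (p : G ⟶ X) (o : A ⟶ X)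
    [IsOpenImmersion o] (hto : t ≫ p = o) (V : X.Opens) (hV : o.opensRange = V)
    (hpre : p ⁻¹ᵁ V = t.opensRange) : IsIso (p ∣_ V) := by
  subst hV
  let e : A ⟶ (p ⁻¹ᵁ o.opensRange).toScheme := t.isoOpensRange.hom ≫ (G.isoOfEq hpre).inv
  have h : e ≫ (p ∣_ o.opensRange) = o.isoOpensRange.hom := by
    rw [← cancel_mono o.opensRange.ι]
    simp only [e, Category.assoc, morphismRestrict_ι, Scheme.isoOfEq_inv_ι_assoc,
      Scheme.Hom.isoOpensRange_hom_ι, Scheme.Hom.isoOpensRange_hom_ι_assoc, hto]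
  haveI : IsIso (e ≫ (p ∣_ o.opensRange)) := h ▸ inferInstance
  exact IsIso.of_isIso_comp_left e _

/-- The zero scheme of a section generating somewhere is an effective Cartier divisor. -/
theorem isEffCartier_zeroScheme {X : Scheme.{u}} [IsIntegral X] {L : X.Modules} (hL : PicF.IsInvertible L)
    (s : Coh.structureModule X ⟶ L) (hs : ((CohB1.genLocus L s : X.Opens) : Set X).Nonempty) :
    BlowUp.IsEffCartierIdeal (PicF2.zeroScheme L s) := fun x => by
  obtain ⟨W, e, hxW, he⟩ := ParaFLib.exists_gen_nhd hL x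
  obtain ⟨_, ⟨U, hU, rfl⟩, hxU, hUW⟩ := X.isBasis_affineOpens.exists_subset_of_mem_open hxW W.2
  have he' := he.res (show U ≤ W from hUW)
  obtain ⟨c, hc⟩ := (he' U le_rfl).2 (AmpleLib.resT (AmpleLib.sec s) (O := U))
  have hc' : c • L.presheaf.map (homOfLE (show U ≤ W from hUW)).op e = AmpleLib.resT (AmpleLib.sec s) (O := U) := by
    rw [← hc]
    show _ = c • _
    rw [ParaFLib.res_res]
  haveI : Nonempty U := ⟨⟨x, hxU⟩⟩
  refine ⟨⟨U, hU⟩, hxU, c, mem_nonZeroDivisors_of_ne_zero fun h0 => ?_, ?_⟩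
  · have hg := AmpleLib.genLocus_inf_eq_basicOpen s he' hc'
    rw [h0, Scheme.basicOpen_zero] at hg
    obtain ⟨z, hz1, hz2⟩ := nonempty_preirreducible_inter (CohB1.genLocus L s).2 U.2 hs ⟨x, hxU⟩
    exact hg.le ⟨hz1, hz2⟩
  · rw [ZeroSchemeLib.zeroScheme_ideal hL]
    exact ZeroSchemeLib.colonIdeal_of_gen s he' hc'

/-- An affine variety is the complement of an ample divisor in a projective one. -/
theorem exists_compactification (k : Type u) [Field k] {U : Scheme.{u}} [IsIntegral U] [IsAffine U]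
    (pU : U ⟶ Spec (CommRingCat.of k)) [LocallyOfFiniteType pU] :
    ∃ (Z : Scheme.{u}) (pZ : Z ⟶ Spec (CommRingCat.of k)) (j : U ⟶ Z) (_ : IsOpenImmersion j) (L : Z.Modules)
      (s : Coh.structureModule Z ⟶ L),
      IsIntegral Z ∧ IsProper pZ ∧ CohB1.IsAmple L ∧ CohB1.genLocus L s = j.opensRange ∧ j ≫ pZ = pU := by
  classical
  obtain ⟨n, c, hc, hcp⟩ := ProperFin.exists_chartEmb pU (isAffineOpen_top U)
  let c' := U.topIso.inv ≫ c
  let j : U ⟶ CohB1.ProjSpace n k := c' ≫ ProjMap.chart 0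
  haveI : IsClosedImmersion c' := inferInstance
  haveI : QuasiCompact (j ≫ CohB1.ProjSpace.toSpec n k) :=
    (HasAffineProperty.iff_of_isAffine (P := @QuasiCompact)).2 inferInstance
  haveI : QuasiCompact j := QuasiCompact.of_comp j (CohB1.ProjSpace.toSpec n k)
  haveI : IsImmersion j := inferInstance
  haveI : IsIntegral j.image := ProperFin.isIntegral_image j
  let V := (ProjMap.chart (R := k) (n := n) 0).opensRange
  haveI : IsProper ((c' ≫ (ProjMap.chart (R := k) (n := n) 0).isoOpensRange.hom) ≫ 𝟙 _) := inferInstance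
  have hpre : j.imageι ⁻¹ᵁ V = j.toImage.opensRange :=
    BoundaryConn.imageι_preimage_eq j V (c' ≫ (ProjMap.chart (R := k) (n := n) 0).isoOpensRange.hom)
      (by rw [Category.assoc, Scheme.Hom.isoOpensRange_hom_ι]) (𝟙 _)
  refine ⟨j.image, j.imageι ≫ CohB1.ProjSpace.toSpec n k, j.toImage, inferInstance,
    (Scheme.Modules.pullback j.imageι).obj (Twist.twistProjSpace n k 1),
    pullS j.imageι (AmpleEmb.coordSec n k 0), inferInstance,
    MorphismProperty.comp_mem (W := @IsProper) _ _ inferInstance inferInstance,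
    isAmple_pullback _ (AmpleEmb.isAmple_twistOne n k), ?_, ?_⟩
  · rw [genLocus_pullS _ (AmpleEmb.isInvertible_twistOne n k), AmpleEmb.genLocus_coordSec, ← hpre]
    congr 2
    exact (ProjMap.mem_opensRange_chart k 0).symm
  · rw [j.toImage_imageι_assoc]
    simp only [j, c', Category.assoc, hcp]
    rw [← Category.assoc]
    exact (congrArg (· ≫ pU) (Scheme.topIso U).inv_hom_id).trans (Category.id_comp _)

/-- A blow-up of the base dominating a modification is a blow-up of the modification. -/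
theorem isBlowUp_factor {X1 Z X2 : Scheme.{u}} (q : X1 ⟶ Z) [IsSeparated q] (I : Z.IdealSheafData)
    [IsIso (q ∣_ I.support.compl)] (b : X2 ⟶ Z) (hb : BlowUp.IsBlowUp b I) (c : X2 ⟶ X1) (hc : c ≫ q = b) :
    BlowUp.IsBlowUp c (I.comap q) := by
  refine ⟨by rw [← Scheme.IdealSheafData.comap_comp, hc]; exact hb.1, fun T g hg => ?_⟩
  rw [← Scheme.IdealSheafData.comap_comp] at hg
  obtain ⟨h, hh, huniq⟩ := hb.2 T (g ≫ q) hg
  obtain ⟨-, hdom⟩ := S1571.result T (I.comap (g ≫ q)) hg
  haveI := hdom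
  have hgc : h ≫ c = g := by
    refine eq_of_dominant (Scheme.Opens.ι (X := T) (I.comap (g ≫ q)).support.compl) (h ≫ c) g q
      (by rw [Category.assoc, hc, hh]) ?_
    refine RGBlowLib.eq_of_iso_over q I.support.compl _ _ (by rw [Category.assoc, Category.assoc, Category.assoc, hc, hh]) fun t => ?_
    intro ht
    refine t.2 ?_
    have key : ∀ z : T, q (g z) ∈ I.support → z ∈ (I.comap (g ≫ q)).support := fun z hz => by
      rw [Scheme.IdealSheafData.support_comap]
      exact hz
    exact key t.1 ht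
  exact ⟨h, hgc, fun h' hh' => huniq h' (by show h' ≫ b = g ≫ q; rw [← hc, ← Category.assoc, hh'])⟩

/-- A modification is dominated by a blow-up with centre exactly the complement. -/
theorem exists_blowUp_dominating {X S : Scheme.{u}} [CompactSpace S] [QuasiSeparatedSpace S] (φ : X ⟶ S)
    [IsProper φ] (U : S.Opens) (hU : IsCompact (U : Set S)) [IsIso (φ ∣_ U)] :
    ∃ (I : S.IdealSheafData) (S' : Scheme.{u}) (b : S' ⟶ S), BlowUp.IsBlowUp b I ∧ BlowUp.IsFiniteTypeIdeal I ∧
      I.support.compl = U ∧ ∃ h : S' ⟶ X, h ≫ φ = b := by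
  obtain ⟨I, S', b, hb, hadm, hex, H⟩ := RGBlowLib.exists_isIso_strict φ U hU
  refine ⟨I, S', b, hb, hadm.1, ?_, ?_⟩
  · ext s
    exact ⟨fun h => by_contra fun h' => h (hex s h'), fun h h' => Set.disjoint_left.1 hadm.2 h' h⟩
  · have hc := IsPullback.of_hasPullback φ b
    obtain ⟨𝒥, hJ⟩ := RGBlowLib.exists_killed_of_fg ((I.comap φ).comap (pullback.fst φ b)) (by
      rw [← Scheme.IdealSheafData.comap_comp, pullback.condition, Scheme.IdealSheafData.comap_comp]
      exact ModPairLib.fg_of_isLP ((ModPairLib.isLP_of_cart hb.1).comap _))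
    haveI := H _ _ _ hc 𝒥 hJ
    exact ⟨inv (𝒥.subschemeι ≫ pullback.snd φ b) ≫ 𝒥.subschemeι ≫ pullback.fst φ b, by
      simp only [Category.assoc, pullback.condition]
      exact IsIso.inv_hom_id_assoc (𝒥.subschemeι ≫ pullback.snd φ b) b⟩

end Groth.Agent.AffBlowLib
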