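import Mathlib
import Groth.Agent.S8852
import Groth.Agent.BlowCompLib.Compose
import Groth.Agent.BlowExistsLib.Glue

/-!
# Residual of an effective Cartier divisor in a power of a principal ideal with the same support
-/

set_option autoImplicit false
set_option backward.isDefEq.respectTransparency false
set_option linter.style.haveILetI false

universe u

open CategoryTheory CategoryTheory.Limits AlgebraicGeometry TopologicalSpace

noncomputable section

namespace Groth.Agent.AffBlowLib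

variable {X : Scheme.{u}}

/-- The quotient of two ideals on an open. -/
def colonOn (J E : X.IdealSheafData) (U : X.affineOpens) : Ideal Γ(X, U.1) where
  carrier := {x | ∀ y ∈ E.ideal U, x * y ∈ J.ideal U}
  add_mem' {a b} ha hb y hy := by rw [add_mul]; exact add_mem (ha y hy) (hb y hy)
  zero_mem' y hy := by rw [zero_mul]; exact zero_mem _
  smul_mem' c {a} ha y hy := by rw [smul_eq_mul, mul_assoc]; exact Ideal.mul_mem_left _ c (ha y hy)

theorem map_colonOn (J E : X.IdealSheafData) [IsLocallyNoetherian X] (U : X.affineOpens) (g : Γ(X, U.1)) :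
    (colonOn J E U).map (X.presheaf.map (homOfLE (X.basicOpen_le g)).op).hom =
      colonOn J E (X.affineBasicOpen g) := by
  classical
  set r := (X.presheaf.map (homOfLE (X.basicOpen_le g)).op).hom with hrdef
  letI : Algebra Γ(X, U.1) Γ(X, X.basicOpen g) := r.toAlgebra
  haveI : IsLocalization.Away g Γ(X, X.basicOpen g) := U.2.isLocalization_basicOpen g
  have hu : ∀ n, IsUnit (r (g ^ n)) := fun n => by
    rw [map_pow]; exact (RingedSpace.isUnit_res_basicOpen _ g).pow n
  refine le_antisymm (Ideal.map_le_iff_le_comap.2 fun x hx (y : Γ(X, X.basicOpen g)) hy => ?_) fun (y : Γ(X, X.basicOpen g)) hy => ?_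
  · change r x * y ∈ J.ideal (X.affineBasicOpen g)
    rw [← E.map_ideal_basicOpen U g] at hy
    obtain ⟨⟨⟨e, he⟩, ⟨_, n, rfl⟩⟩, hn⟩ :=
      (IsLocalization.mem_map_algebraMap_iff (Submonoid.powers g) Γ(X, X.basicOpen g)).1 hy
    have hn' : y * r (g ^ n) = r e := hn
    rw [← J.map_ideal_basicOpen U g]
    refine (Ideal.mul_unit_mem_iff_mem _ (hu n)).1 ?_
    show r x * y * r (g ^ n) ∈ _
    rw [mul_assoc, hn', ← map_mul]
    exact Ideal.mem_map_of_mem _ (hx e he)
  · haveI : IsNoetherianRing Γ(X, U.1) := IsLocallyNoetherian.component_noetherian U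
    obtain ⟨s, hs⟩ := IsNoetherian.noetherian (E.ideal U)
    obtain ⟨⟨a, ⟨_, n, rfl⟩⟩, ha⟩ := IsLocalization.surj (Submonoid.powers g) y
    have hy' : ∀ e ∈ E.ideal U, r a * r e ∈ (J.ideal U).map r := fun e he => by
      have h1 : y * r e ∈ (J.ideal U).map r := by
        rw [J.map_ideal_basicOpen U g]
        exact hy (r e) (by rw [← E.map_ideal_basicOpen U g]; exact Ideal.mem_map_of_mem _ he)
      rw [show r a = y * r (g ^ n) from ha.symm, mul_right_comm]
      exact Ideal.mul_mem_right _ _ h1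
    have hk : ∀ e ∈ E.ideal U, ∃ m : ℕ, g ^ m * (a * e) ∈ J.ideal U := fun e he => by
      obtain ⟨_, ⟨m, rfl⟩, hm⟩ := (IsLocalization.algebraMap_mem_map_algebraMap_iff (Submonoid.powers g)
        Γ(X, X.basicOpen g) (J.ideal U) (a * e)).1 (by
          show r (a * e) ∈ _
          rw [map_mul]; exact hy' e he)
      exact ⟨m, hm⟩
    choose m hm using fun e : s => hk e.1 (hs ▸ Submodule.subset_span e.2)
    let M := Finset.univ.sup m
    have hmem : g ^ M * a ∈ colonOn J E U := fun e he => by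
      rw [← hs] at he
      induction he using Submodule.span_induction with
      | mem e he =>
        obtain ⟨d, hd⟩ := Nat.exists_eq_add_of_le (Finset.le_sup (f := m) (Finset.mem_univ ⟨e, he⟩))
        rw [show g ^ M * a * e = g ^ d * (g ^ m ⟨e, he⟩ * (a * e)) by rw [show M = _ from hd, pow_add]; ring]
        exact Ideal.mul_mem_left _ _ (hm ⟨e, he⟩)
      | zero => rw [mul_zero]; exact zero_mem _
      | add e e' _ _ h h' => rw [mul_add]; exact add_mem h h'
      | smul c e _ h => rw [smul_eq_mul, mul_left_comm]; exact Ideal.mul_mem_left _ c h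
    refine (Ideal.mul_unit_mem_iff_mem _ ((hu n).mul (hu M))).1 ?_
    show y * (r (g ^ n) * r (g ^ M)) ∈ _
    rw [← mul_assoc, show y * r (g ^ n) = r a from ha, ← map_mul, mul_comm]
    exact Ideal.mem_map_of_mem _ hmem

/-- The quotient of two ideal sheaves. -/
def colon [IsLocallyNoetherian X] (J E : X.IdealSheafData) : X.IdealSheafData where
  ideal := colonOn J E
  map_ideal_basicOpen := map_colonOn J E

theorem exists_residual [IsNoetherian X] (E H : X.IdealSheafData) (hE : BlowUp.IsEffCartierIdeal E)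
    (hH : ∀ x : X, ∃ U : X.affineOpens, x ∈ U.1 ∧ ∃ h, H.ideal U = Ideal.span {h})
    (hs : (E.support : Set X) = H.support) :
    ∃ (N : ℕ) (D : X.IdealSheafData), BlowUp.IsEffCartierIdeal H ∧ BlowUp.IsEffCartierIdeal D ∧
      D * E = H ^ (N + 1) ∧ (D.support : Set X) = H.support := by
  classical
  have key : ∀ x : X, ∃ (U : X.affineOpens) (e h : Γ(X, U.1)) (m : ℕ), x ∈ U.1 ∧ e ∈ nonZeroDivisors Γ(X, U.1) ∧
      E.ideal U = Ideal.span {e} ∧ h ∈ nonZeroDivisors Γ(X, U.1) ∧ H.ideal U = Ideal.span {h} ∧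
      ∀ n, m ≤ n → e ∣ h ^ n := fun x => by
    obtain ⟨U₀, hxU₀, h₀, hh₀⟩ := hH x
    obtain ⟨V₀, hxV₀, e₀, he₀, hE₀⟩ := hE x
    obtain ⟨t, htle, hxt⟩ := V₀.2.exists_basicOpen_le (V := U₀.1 ⊓ V₀.1) ⟨x, hxU₀, hxV₀⟩ hxV₀
    obtain ⟨e, he, hEI⟩ := RelDivLib.generator_res E V₀ t he₀ hE₀
    let U : X.affineOpens := X.affineBasicOpen (U := V₀) t
    have hle : U ≤ U₀ := htle.trans inf_le_left
    obtain ⟨h, hhI⟩ : ∃ h, H.ideal U = Ideal.span {h} :=
      ⟨_, by rw [← H.map_ideal hle, hh₀, Ideal.map_span, Set.image_singleton]⟩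
    haveI : IsNoetherianRing Γ(X, U.1) := IsLocallyNoetherian.component_noetherian U
    have hrad : ∀ {A B : X.IdealSheafData}, (A.support : Set X) = B.support → A ≤ B.radical := fun {A B} hAB => by
      rw [← Scheme.IdealSheafData.vanishingIdeal_support]
      exact Scheme.IdealSheafData.le_support_iff_le_vanishingIdeal.1 (fun z hz => hAB.ge hz)
    obtain ⟨n, hn⟩ : ∃ n : ℕ, h ^ n ∈ E.ideal U := hrad hs.symm U (hhI.ge (Ideal.mem_span_singleton_self h))
    obtain ⟨n', hn'⟩ : ∃ n : ℕ, e ^ n ∈ H.ideal U := hrad hs U (hEI.ge (Ideal.mem_span_singleton_self e))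
    obtain ⟨d, hd⟩ := Ideal.mem_span_singleton'.1 (hhI.le hn')
    refine ⟨U, e, h, n, hxt, he, hEI, ?_, hhI, fun k hk => ?_⟩
    · have hp : d * h ∈ nonZeroDivisors Γ(X, U.1) := hd ▸ pow_mem he n'
      exact (mul_mem_nonZeroDivisors.1 hp).2
    · exact (Ideal.mem_span_singleton.1 (hEI.le hn)).trans (pow_dvd_pow h hk)
  choose U e h m hxU he hEI hh hHI hm using key
  obtain ⟨t, ht⟩ := isCompact_univ.elim_finite_subcover (fun x : X => ((U x).1 : Set X)) (fun x => (U x).1.isOpen)
    fun x _ => Set.mem_iUnion.2 ⟨x, hxU x⟩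
  let N := t.sup m
  have hcov : ∀ x : X, ∃ p ∈ t, x ∈ (U p).1 := fun x => by
    obtain ⟨p, hp⟩ := Set.mem_iUnion.1 (ht (Set.mem_univ x))
    obtain ⟨hpt, hx⟩ := Set.mem_iUnion.1 hp
    exact ⟨p, hpt, hx⟩
  have hD : ∀ p ∈ t, ∀ d, h p ^ N = e p * d →
      (colon (H ^ (N + 1)) E).ideal (U p) = Ideal.span {h p * d} := fun p _ d hd => by
    ext z
    show (∀ y ∈ E.ideal (U p), z * y ∈ (H ^ (N + 1)).ideal (U p)) ↔ _
    rw [hEI, Scheme.IdealSheafData.ideal_pow, Pi.pow_apply, hHI, Ideal.span_singleton_pow, pow_succ, hd]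
    constructor
    · intro hz
      obtain ⟨c, hc⟩ := Ideal.mem_span_singleton'.1 (hz (e p) (Ideal.mem_span_singleton_self _))
      exact Ideal.mem_span_singleton'.2 ⟨c, (mul_cancel_right_mem_nonZeroDivisors (he p)).1 (by rw [← hc]; ring)⟩
    · intro hz y hy
      obtain ⟨c, rfl⟩ := Ideal.mem_span_singleton'.1 hz
      obtain ⟨c', rfl⟩ := Ideal.mem_span_singleton'.1 hy
      exact Ideal.mem_span_singleton'.2 ⟨c * c', by ring⟩
  have hHc : BlowUp.IsEffCartierIdeal H := fun x => by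
    obtain ⟨p, -, hx⟩ := hcov x
    exact ⟨U p, hx, h p, hh p, hHI p⟩
  have hdiv : ∀ p ∈ t, ∃ d, h p ^ N = e p * d := fun p hp => hm p N (Finset.le_sup hp)
  choose d hd using hdiv
  refine ⟨N, colon (H ^ (N + 1)) E, hHc, fun x => ?_, ?_, ?_⟩
  · obtain ⟨p, hp, hx⟩ := hcov x
    refine ⟨U p, hx, h p * d p hp, mul_mem (hh p) ?_, hD p hp _ (hd p hp)⟩
    have h1 : e p * d p hp ∈ nonZeroDivisors Γ(X, (U p).1) := hd p hp ▸ pow_mem (hh p) N
    exact (mul_mem_nonZeroDivisors.1 h1).2
  · refine Scheme.IdealSheafData.ext_of_iSup_eq_top (fun p : t => U p.1)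
      (top_le_iff.1 fun x _ => ?_) fun p => ?_
    · obtain ⟨p, hp, hx⟩ := hcov x
      exact Opens.mem_iSup.2 ⟨⟨p, hp⟩, hx⟩
    · rw [Scheme.IdealSheafData.ideal_mul, Pi.mul_apply, hD p.1 p.2 _ (hd p.1 p.2), hEI,
        Ideal.span_singleton_mul_span_singleton, Scheme.IdealSheafData.ideal_pow, Pi.pow_apply, hHI,
        Ideal.span_singleton_pow, pow_succ, hd p.1 p.2]
      congr 2
      ring
  · ext x
    obtain ⟨p, hp, hx⟩ := hcov x
    rw [SetLike.mem_coe, SetLike.mem_coe, Scheme.IdealSheafData.mem_support_iff_of_mem (U := U p) hx,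
      Scheme.IdealSheafData.mem_support_iff_of_mem (U := U p) hx, hD p hp _ (hd p hp), hHI,
      Scheme.zeroLocus_span, Scheme.zeroLocus_span, Scheme.mem_zeroLocus_iff, Scheme.mem_zeroLocus_iff]
    simp only [Set.mem_singleton_iff, forall_eq, Scheme.basicOpen_mul]
    refine ⟨fun h1 h2 => h1 ⟨h2, ?_⟩, fun h1 h2 => h1 h2.1⟩
    have h3 : IsUnit (X.presheaf.germ (U p).1 x hx (h p ^ N)) := by
      rw [map_pow]
      exact ((X.mem_basicOpen _ x hx).1 h2).pow _
    rw [hd p hp, map_mul] at h3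
    exact (X.mem_basicOpen _ x hx).2 (isUnit_of_mul_isUnit_right h3)

end Groth.Agent.AffBlowLib
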