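import Mathlib
import Groth.Prelude.Def_ClSub2
import Groth.Agent.AffBlowLib.Residual
import Groth.Agent.AffBlowLib.Geom
import Groth.Agent.AmpleFamLib.Blow
import Groth.Agent.JacLib.IdealPull
import Groth.Agent.JacLib.InverseIdeal
import Groth.Agent.LefAmpleLib.IdealPow
import Groth.Agent.PicRepLib.Div
import Groth.Agent.AmpleLib.UnivClosed
import Groth.Agent.AmpleEmb.ComposeRel
import Groth.Agent.S1694
import Groth.Agent.TwistShriek.PicPrime

/-!
# An open of a proper variety is affine iff it is the complement of an ample divisor after a blow-up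
-/

set_option autoImplicit false
set_option backward.isDefEq.respectTransparency false
set_option linter.style.haveILetI false
set_option maxHeartbeats 2000000

universe u

open CategoryTheory CategoryTheory.Limits AlgebraicGeometry TopologicalSpace
open Groth.Agent.AmpleLib Groth.Agent.PicLib

noncomputable section

namespace Groth.Agent.AffBlowLib

theorem isNoetherian_of_field {k : Type u} [Field k] {X : Scheme.{u}} (p : X ⟶ Spec (CommRingCat.of k))
    [LocallyOfFiniteType p] [QuasiCompact p] : AlgebraicGeometry.IsNoetherian X := by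
  haveI : IsLocallyNoetherian X := LocallyOfFiniteType.isLocallyNoetherian p
  haveI : CompactSpace X := QuasiCompact.compactSpace_of_compactSpace p
  exact {}

/-- A proper scheme with an ample divisor has affine complement. -/
theorem isAffineOpen_of_ample_divisor {X' S : Scheme.{u}} [IsAffine S] (π : X' ⟶ S) [UniversallyClosed π]
    (D : X'.IdealSheafData) (hD : BlowUp.IsEffCartierIdeal D) (L : X'.Modules)
    (hL : ClSub.IsInverseOf L (ClSub.idealMod D)) (hamp : CohB1.IsAmple L) :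
    IsAffineOpen (D.support.compl : X'.Opens) := by
  obtain ⟨e⟩ := hL
  obtain ⟨s, hs⟩ := AbelMapLib.exists_canSect D hamp.1 ((S8914.result D).2 hD) e
  have h := PicRepLib.eq_zeroScheme_of_isCanSect hamp.1 hs
  have hU : (D.support.compl : X'.Opens) = CohB1.genLocus L (DCohLib.secHom L s) := by
    refine Opens.ext ?_
    show ((D.support : Set X'))ᶜ = _
    rw [h, BoundaryConn.support_zeroScheme hamp.1, compl_compl]
  rw [hU]
  exact isAffineOpen_genLocus_of_universallyClosed π hamp _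

theorem cls_idealMod_congr {X : Scheme.{u}} {I J : X.IdealSheafData} (h : I = J)
    (hI : PicF.IsInvertible (ClSub.idealMod I)) (hJ : PicF.IsInvertible (ClSub.idealMod J)) : cls hI = cls hJ := by
  subst h; rfl

theorem cls_idealMod_pow {X : Scheme.{u}} [AlgebraicGeometry.IsNoetherian X] {H : X.IdealSheafData}
    (hH : BlowUp.IsEffCartierIdeal H) (hiH : PicF.IsInvertible (ClSub.idealMod H)) :
    ∀ (m : ℕ) (hm : PicF.IsInvertible (ClSub.idealMod (H ^ (m + 1)))), cls hm = cls hiH ^ (m + 1)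
  | 0, hm => (cls_idealMod_congr (pow_one H) hm hiH).trans (pow_one (cls hiH)).symm
  | m + 1, hm => by
    have hm' := (S8914.result _).2 (TwistShriek.mk_idealMod_pow hH (m + 1)).1
    have hmul : PicF.IsInvertible (ClSub.idealMod (H ^ (m + 1) * H)) :=
      (S8914.result _).2 (BlowCompLib.isEffCartier_mul ((S8914.result _).1 hm') hH)
    exact (cls_idealMod_congr (pow_succ H (m + 1)) hm hmul).trans
      ((JacLib.cls_idealMod_mul hm' hiH hmul).trans
        ((congrArg (· * cls hiH) (cls_idealMod_pow hH hiH m hm')).trans (pow_succ (cls hiH) (m + 1)).symm))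

/-- The twisted exceptional divisor is inverse to the residual. -/
theorem isInverseOf_residual {X Z : Scheme.{u}} [AlgebraicGeometry.IsNoetherian X] (b : X ⟶ Z) {L₀ : Z.Modules}
    (hL₀ : PicF.IsInvertible L₀) (H : Z.IdealSheafData) (hH : BlowUp.IsEffCartierIdeal H)
    (hH' : BlowUp.IsEffCartierIdeal (H.comap b))
    (he : Nonempty (CohB1.tensorMod L₀ (ClSub.idealMod H) ≅ Coh.structureModule Z))
    (E D : X.IdealSheafData) (hE : BlowUp.IsEffCartierIdeal E) (hD : BlowUp.IsEffCartierIdeal D) (n : ℕ) (hn : n ≠ 0)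
    (hDE : D * E = H.comap b ^ n) :
    ClSub.IsInverseOf (CohB1.tensorMod (ClSub.idealMod E) ((Scheme.Modules.pullback b).obj (CohB1.tensorPow L₀ n)))
      (ClSub.idealMod D) := by
  obtain ⟨m, rfl⟩ := Nat.exists_eq_succ_of_ne_zero hn
  have hiE := (S8914.result E).2 hE
  have hiD := (S8914.result D).2 hD
  have hiH := (S8914.result H).2 hH
  have hiH' := (S8914.result _).2 hH'
  have hiHn := (S8914.result _).2 (TwistShriek.mk_idealMod_pow hH' (m + 1)).1
  have hiP := isInvertible_pullback b (isInvertible_tensorPow hL₀ (m + 1))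
  have hiT := AmpleLib.isInvertible_tensor hiE hiP
  have hmul : PicF.IsInvertible (ClSub.idealMod (D * E)) := (S8914.result _).2 (BlowCompLib.isEffCartier_mul hD hE)
  have h1 : cls hiD * cls hiE = cls hiH' ^ (m + 1) :=
    (JacLib.cls_idealMod_mul hiD hiE hmul).symm.trans
      ((cls_idealMod_congr hDE hmul hiHn).trans (cls_idealMod_pow hH' hiH' m hiHn))
  obtain ⟨e⟩ := he
  have h3 : cls hL₀ * cls hiH = 1 :=
    (cls_tensor hL₀ hiH).symm.trans ((cls_eq_one (AmpleLib.isInvertible_tensor hL₀ hiH)).2 ⟨e⟩)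
  obtain ⟨e'⟩ := JacLib.nonempty_iso_pullback_idealMod b H hH hH'
  have h4 : cls hiH' = pull b (cls hiH) :=
    ((cls_eq_cls (isInvertible_pullback b hiH) hiH').2 ⟨e'⟩).symm.trans (pull_cls b hiH).symm
  have h5 : cls hiP = pull b (cls hL₀) ^ (m + 1) :=
    (pull_cls b (isInvertible_tensorPow hL₀ (m + 1))).symm.trans
      ((congrArg (pull b) (cls_tensorPow hL₀ (m + 1))).trans (map_pow _ _ _))
  refine (cls_eq_one (AmpleLib.isInvertible_tensor hiT hiD)).1 ?_
  rw [cls_tensor hiT hiD, cls_tensor hiE hiP, mul_comm (cls hiE * cls hiP) (cls hiD), ← mul_assoc, h1, h4, h5,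
    ← mul_pow, ← map_mul, mul_comm, h3, map_one, one_pow]

/-- A nonempty affine open of a proper variety becomes, after a blow-up off it, the complement of an ample divisor. -/
theorem exists_blowUp_ample (k : Type u) [Field k] {X : Scheme.{u}} (p : X ⟶ Spec (CommRingCat.of k)) [IsProper p]
    [IsIntegral X] (U : X.Opens) (hU : IsAffineOpen U) [Nonempty U] :
    ∃ 𝓙 : X.IdealSheafData, (𝓙.support : Set X) ⊆ (U : Set X)ᶜ ∧
      ∃ (X' : Scheme.{u}) (f : X' ⟶ X), BlowUp.IsBlowUp f 𝓙 ∧ IsProper (f ≫ p) ∧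
        ∃ (D : X'.IdealSheafData) (L : X'.Modules), BlowUp.IsEffCartierIdeal D ∧
          (D.support : Set X') = (fun x => f x) ⁻¹' ((U : Set X)ᶜ) ∧
          ClSub.IsInverseOf L (ClSub.idealMod D) ∧ CohB1.IsAmple L := by
  haveI : IsAffine U.toScheme := hU
  obtain ⟨Z, pZ, j, hj, L₀, s, hZ, hpZ, hL₀, hgen, hjp⟩ := exists_compactification k (U.ι ≫ p)
  haveI := hj
  haveI := hZ
  haveI := hpZ
  let V : Z.Opens := j.opensRange
  let G : U.toScheme ⟶ pullback p pZ := pullback.lift U.ι j hjp.symm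
  haveI : QuasiCompact G := by
    haveI : QuasiCompact (G ≫ pullback.fst p pZ ≫ p) :=
      (HasAffineProperty.iff_of_isAffine (P := @QuasiCompact)).2 inferInstance
    exact QuasiCompact.of_comp G (pullback.fst p pZ ≫ p)
  haveI : IsImmersion G := by
    haveI : IsImmersion (G ≫ pullback.fst p pZ) := by rw [pullback.lift_fst]; infer_instance
    exact IsImmersion.of_comp G (pullback.fst p pZ)
  let p₁ : G.image ⟶ X := G.imageι ≫ pullback.fst p pZ
  let p₂ : G.image ⟶ Z := G.imageι ≫ pullback.snd p pZ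
  have hp₁ : G.toImage ≫ p₁ = U.ι := by simp only [p₁, G, G.toImage_imageι_assoc, pullback.lift_fst]
  have hp₂ : G.toImage ≫ p₂ = j := by simp only [p₂, G, G.toImage_imageι_assoc, pullback.lift_snd]
  have hpre₁ : p₁ ⁻¹ᵁ U = G.toImage.opensRange := by
    let O := pullback.fst p pZ ⁻¹ᵁ U
    let l : U.toScheme ⟶ O.toScheme := IsOpenImmersion.lift O.ι G (by
      rw [Scheme.Opens.range_ι]
      rintro _ ⟨w, rfl⟩
      show pullback.fst p pZ (G w) ∈ U
      rw [← Scheme.Hom.comp_apply, pullback.lift_fst]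
      exact w.2)
    haveI : IsProper (l ≫ (pullback.fst p pZ ∣_ U)) := by
      rw [show l ≫ (pullback.fst p pZ ∣_ U) = 𝟙 _ by
        rw [← cancel_mono U.ι, Category.assoc, morphismRestrict_ι, IsOpenImmersion.lift_fac_assoc,
          pullback.lift_fst, Category.id_comp]]
      infer_instance
    rw [Scheme.Hom.comp_preimage]
    exact BoundaryConn.imageι_preimage_eq G O l (IsOpenImmersion.lift_fac _ _ _) (pullback.fst p pZ ∣_ U)
  have hpre₂ : p₂ ⁻¹ᵁ V = G.toImage.opensRange := by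
    let O := pullback.snd p pZ ⁻¹ᵁ V
    let l : U.toScheme ⟶ O.toScheme := IsOpenImmersion.lift O.ι G (by
      rw [Scheme.Opens.range_ι]
      rintro _ ⟨w, rfl⟩
      show pullback.snd p pZ (G w) ∈ V
      rw [← Scheme.Hom.comp_apply, pullback.lift_snd]
      exact ⟨w, rfl⟩)
    haveI : IsProper (l ≫ (pullback.snd p pZ ∣_ V)) := by
      rw [show l ≫ (pullback.snd p pZ ∣_ V) = j.isoOpensRange.hom by
        rw [← cancel_mono V.ι, Category.assoc, morphismRestrict_ι, IsOpenImmersion.lift_fac_assoc,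
          pullback.lift_snd, Scheme.Hom.isoOpensRange_hom_ι]]
      infer_instance
    rw [Scheme.Hom.comp_preimage]
    exact BoundaryConn.imageι_preimage_eq G O l (IsOpenImmersion.lift_fac _ _ _) (pullback.snd p pZ ∣_ V)
  haveI : IsProper p₁ := inferInstance
  haveI : IsProper p₂ := inferInstance
  haveI : IsIso (p₁ ∣_ U) := isIso_restrict_of_fac G.toImage p₁ U.ι hp₁ U (Scheme.Opens.opensRange_ι U) hpre₁
  haveI : IsIso (p₂ ∣_ V) := isIso_restrict_of_fac G.toImage p₂ j hp₂ V rfl hpre₂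
  haveI : AlgebraicGeometry.IsNoetherian X := isNoetherian_of_field p
  haveI : AlgebraicGeometry.IsNoetherian Z := isNoetherian_of_field pZ
  -- first blow-up
  obtain ⟨I₁, X₁, b₁, hb₁, hI₁, hU₁, h₁, hh₁⟩ := exists_blowUp_dominating p₁ U hU.isCompact
  haveI : IsProper b₁ := BlowExistsLib.isProper_of_FG hb₁ hI₁
  let q₁ : X₁ ⟶ Z := h₁ ≫ p₂
  have hb₁U : IsIso (b₁ ∣_ U) := isIso_restrict_congr b₁ hU₁ (BlowCompLib.isIso_restrict I₁ b₁ hb₁)
  haveI : IsIso (q₁ ∣_ V) := by
    haveI : IsIso ((h₁ ≫ p₁) ∣_ U) := hh₁.symm ▸ hb₁U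
    haveI : IsIso (h₁ ∣_ (p₂ ⁻¹ᵁ V)) :=
      isIso_restrict_congr h₁ (hpre₁.trans hpre₂.symm) (isIso_restrict_left h₁ p₁ U)
    exact isIso_restrict_comp h₁ p₂ V
  have hq₁V : q₁ ⁻¹ᵁ V = b₁ ⁻¹ᵁ U := by
    rw [Scheme.Hom.comp_preimage, hpre₂, ← hpre₁, ← Scheme.Hom.comp_preimage, hh₁]
  haveI : IsProper q₁ := by
    haveI : IsProper (q₁ ≫ pZ) := by
      have h : q₁ ≫ pZ = b₁ ≫ p := by
        simp only [q₁, ← hh₁, p₁, p₂, Category.assoc, pullback.condition]
      rw [h]
      infer_instance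
    exact IsProper.of_comp q₁ pZ
  -- second blow-up
  have hVc : IsCompact (V : Set Z) := NoetherianSpace.isCompact _
  obtain ⟨I₂, X₂, b₂, hb₂, hI₂, hV₂, c, hc⟩ := exists_blowUp_dominating q₁ V hVc
  haveI : IsProper b₂ := BlowExistsLib.isProper_of_FG hb₂ hI₂
  haveI : IsIso (q₁ ∣_ I₂.support.compl) := isIso_restrict_congr q₁ hV₂.symm inferInstance
  have hcb : BlowUp.IsBlowUp c (I₂.comap q₁) := isBlowUp_factor q₁ I₂ b₂ hb₂ c hc
  haveI : AlgebraicGeometry.IsNoetherian X₁ := isNoetherian_of_field (b₁ ≫ p)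
  have hI₂' : BlowUp.IsFiniteTypeIdeal (I₂.comap q₁) := fun W => by
    haveI : IsNoetherianRing Γ(X₁, W.1) := IsLocallyNoetherian.component_noetherian W
    exact IsNoetherian.noetherian _
  obtain ⟨K, hKft, hKs, hKb⟩ := Groth.Agent.S1694.result X I₁ hI₁ b₁ hb₁ _ hI₂' c hcb
  haveI : IsProper c := BlowExistsLib.isProper_of_FG hcb hI₂'
  haveI : AlgebraicGeometry.IsNoetherian X₂ := isNoetherian_of_field (c ≫ b₁ ≫ p)
  have hI₁U : ∀ x : X, x ∈ I₁.support → x ∉ U := fun x hx hxU => by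
    rw [← hU₁] at hxU
    exact hxU hx
  have hI₂V : ∀ z : Z, z ∈ I₂.support ↔ z ∉ V := fun z => by
    rw [← hV₂]
    exact not_not.symm
  refine ⟨K, ?_, X₂, c ≫ b₁, hKb, ?_, ?_⟩
  · rw [hKs]
    rintro x (hx | ⟨y, hy, rfl⟩)
    · exact hI₁U x hx
    · intro hyU
      have hy' : q₁ y ∈ I₂.support := by
        rw [SetLike.mem_coe, Scheme.IdealSheafData.support_comap] at hy
        exact hy
      exact (hI₂V _).1 hy' (hq₁V.ge (show y ∈ b₁ ⁻¹ᵁ U from hyU))
  · exact inferInstance
  -- the divisor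
  have hne : ((CohB1.genLocus L₀ s : Z.Opens) : Set Z).Nonempty := by
    rw [hgen]
    exact ⟨_, ⟨Classical.arbitrary U, rfl⟩⟩
  let H := PicF2.zeroScheme L₀ s
  have hH : BlowUp.IsEffCartierIdeal H := isEffCartier_zeroScheme hL₀.1 s hne
  have hHs : ∀ z : Z, z ∈ H.support ↔ z ∉ V := fun z => by
    rw [← SetLike.mem_coe, BoundaryConn.support_zeroScheme hL₀.1, hgen]
    rfl
  let E := I₂.comap b₂
  let H₂ := H.comap b₂
  have hH₂loc : ∀ x : X₂, ∃ W : X₂.affineOpens, x ∈ W.1 ∧ ∃ h, H₂.ideal W = Ideal.span {h} := fun x => by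
    obtain ⟨W₀, hxW₀, a, -, ha⟩ := hH (b₂ x)
    obtain ⟨W, hW, hxW, hle⟩ := exists_isAffineOpen_mem_and_subset (U := b₂ ⁻¹ᵁ W₀.1) hxW₀
    refine ⟨⟨W, hW⟩, hxW, (b₂.appLE W₀.1 W hle).hom a, ?_⟩
    rw [IdealStalkLib.comap_ideal H b₂ W₀.2 hW hle, ha, Ideal.map_span, Set.image_singleton]
  have hsupp : (E.support : Set X₂) = H₂.support := by
    ext x
    simp only [E, H₂, SetLike.mem_coe, Scheme.IdealSheafData.support_comap]
    exact (hI₂V _).trans (hHs _).symm
  obtain ⟨N, D, hH₂, hD, hDE, hDs⟩ := exists_residual E H₂ hb₂.1 hH₂loc hsupp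
  have hEL : RelAmple.IsRelAmple b₂ (ClSub.idealMod E) :=
    ⟨inferInstance, fun W => AmpleFamLib.ampleOn_preimage hb₂ hI₂ W⟩
  obtain ⟨M, hM⟩ := AmpleEmb.eventually_isAmple_tensor_pullback b₂ hEL hL₀
  -- enlarge the exponent
  let D' := D * H₂ ^ M
  have hHM : BlowUp.IsEffCartierIdeal (H₂ ^ M) := (TwistShriek.mk_idealMod_pow hH₂ M).1
  have hD' : BlowUp.IsEffCartierIdeal D' := BlowCompLib.isEffCartier_mul hD hHM
  let n := N + 1 + M
  have hDE' : D' * E = H₂ ^ n := by
    simp only [D', n]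
    rw [mul_right_comm, hDE, ← pow_add]
  refine ⟨D', CohB1.tensorMod (ClSub.idealMod E) ((Scheme.Modules.pullback b₂).obj (CohB1.tensorPow L₀ n)),
    hD', ?_, ?_, hM n (by omega)⟩
  · have h1 : (D'.support : Set X₂) = H₂.support := by
      refine Set.Subset.antisymm (fun x hx => ?_) (fun x hx => ?_)
      · have h2 : x ∈ (H₂ ^ n).support := Scheme.IdealSheafData.support_antitone
          (show H₂ ^ n ≤ D' from fun W => by
            rw [← hDE', Scheme.IdealSheafData.ideal_mul, Pi.mul_apply]; exact Ideal.mul_le_left) hx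
        rwa [Scheme.IdealSheafData.support_pow _ _ (by omega)] at h2
      · have h2 : x ∈ D.support := hDs.ge hx
        exact Scheme.IdealSheafData.support_antitone (show D' ≤ D from fun W => by
          rw [Scheme.IdealSheafData.ideal_mul, Pi.mul_apply]; exact Ideal.mul_le_left) h2
    rw [h1]
    ext x
    simp only [H₂, SetLike.mem_coe, Scheme.IdealSheafData.support_comap]
    refine (hHs (b₂ x)).trans ?_
    show ¬ _ ↔ ¬ b₁ (c x) ∈ U
    rw [← hc, Scheme.Hom.comp_apply]
    exact not_congr ⟨fun h => hq₁V.le (show c x ∈ q₁ ⁻¹ᵁ V from h), fun h => hq₁V.ge (show c x ∈ b₁ ⁻¹ᵁ U from h)⟩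
  · exact isInverseOf_residual b₂ hL₀.1 H hH hH₂
      (JacLib.nonempty_tensor_idealMod_iso hH (L := L₀) (s := sec s) (by
        have h := JacLib.isCanSect_zeroScheme hL₀.1 (sec s)
        rwa [AmpleLib.secHom_sec] at h)) E D' hb₂.1 hD' n (by omega) hDE'

end Groth.Agent.AffBlowLib
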